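import Cfsg.Prelude.Def_Classification2
import Cfsg.Agent.H127.Gen.Alt
import Cfsg.Agent.H915.Gs.Base
import Cfsg.Agent.H147.Gen.Base

/-!
# S4327: the assembly modulo the rows (helper260)

`Rows` : the statement for the families of simple groups (the alternating groups are done in `H127.Gen.Alt`);
`main` : the statement for a known simple group.
-/

set_option autoImplicit false

namespace Cfsg.Agent.H260.GS

open Cfsg

universe u

/-- the rows of `S4327` -/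
structure Rows : Prop where
  psl : ∀ (L : Type u) [Group L] [Finite L] [IsSimpleGroup L], ¬ IsMulCommutative L → IsPSL L → H915.Gs.Row L
  psp : ∀ (L : Type u) [Group L] [Finite L] [IsSimpleGroup L], IsPSp L → H915.Gs.Row L
  psu : ∀ (L : Type u) [Group L] [Finite L] [IsSimpleGroup L], IsPSU L → H915.Gs.Row L
  omegaOdd : ∀ (L : Type u) [Group L] [Finite L] [IsSimpleGroup L], IsPOmegaOdd L → H915.Gs.Row L
  omegaPlus : ∀ (L : Type u) [Group L] [Finite L] [IsSimpleGroup L], IsPOmegaPlus L → H915.Gs.Row L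
  omegaMinus : ∀ (L : Type u) [Group L] [Finite L] [IsSimpleGroup L], IsPOmegaMinus L → H915.Gs.Row L
  g2 : ∀ (L : Type u) [Group L] [Finite L] [IsSimpleGroup L], Lie.IsoChevG2 L → H147.Gen.Gen11 L
  f4 : ∀ (L : Type u) [Group L] [Finite L] [IsSimpleGroup L], Lie.IsoF4 L → H147.Gen.Gen11 L
  e6 : ∀ (L : Type u) [Group L] [Finite L] [IsSimpleGroup L], Lie.IsoChevE6 L → H147.Gen.Gen11 L
  e7 : ∀ (L : Type u) [Group L] [Finite L] [IsSimpleGroup L], Lie.IsoE7 L → H147.Gen.Gen11 L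
  e8 : ∀ (L : Type u) [Group L] [Finite L] [IsSimpleGroup L], Lie.IsoE8 L → H147.Gen.Gen11 L
  te6 : ∀ (L : Type u) [Group L] [Finite L] [IsSimpleGroup L], Lie.Iso2E6 L → H147.Gen.Gen11 L
  td4 : ∀ (L : Type u) [Group L] [Finite L] [IsSimpleGroup L], Lie.Iso3D4 L → H147.Gen.Gen11 L
  sz : ∀ (L : Type u) [Group L] [Finite L] [IsSimpleGroup L], Lie.IsoSuzuki L → H147.Gen.Gen11 L
  ree : ∀ (L : Type u) [Group L] [Finite L] [IsSimpleGroup L], Lie.IsoRee L → H147.Gen.Gen11 L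
  tf4 : ∀ (L : Type u) [Group L] [Finite L] [IsSimpleGroup L], Lie.Iso2F4 L → H147.Gen.Gen11 L
  tits : ∀ (L : Type u) [Group L] [Finite L] [IsSimpleGroup L], Lie.IsoTits L → H147.Gen.Gen11 L
  spor : ∀ (L : Type u) [Group L] [Finite L] [IsSimpleGroup L], IsSporadicGroup L → H147.Gen.Gen11 L

/-- the three alternatives of the template -/
def Concl (L : Type u) [Group L] (r : ℕ) (x : MulAut L) : Prop :=
    (∃ f : Fin 11 → L, Subgroup.closure (Set.range fun i => MulAut.conj (f i) * x * (MulAut.conj (f i))⁻¹) =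
        Subgroup.zpowers x ⊔ (MulAut.conj : L →* MulAut L).range) ∨
    ((Cfsg.IsAlternating L ∨ Cfsg.IsPSL L ∨ Cfsg.IsPSp L ∨ Cfsg.IsPSU L ∨ Cfsg.IsPOmegaOdd L ∨
        Cfsg.IsPOmegaPlus L ∨ Cfsg.IsPOmegaMinus L) ∧ ¬ r ∣ Nat.card L ∧
      ∃ f : Fin (r - 1) → L, Subgroup.closure (Set.range fun i => MulAut.conj (f i) * x * (MulAut.conj (f i))⁻¹) =
        Subgroup.zpowers x ⊔ (MulAut.conj : L →* MulAut L).range) ∨
    ((Cfsg.IsAlternating L ∨ Cfsg.IsPSL L ∨ Cfsg.IsPSp L ∨ Cfsg.IsPSU L ∨ Cfsg.IsPOmegaOdd L ∨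
        Cfsg.IsPOmegaPlus L ∨ Cfsg.IsPOmegaMinus L) ∧ r ∣ Nat.card L ∧
      ∃ f : Fin (2 * (r - 2)) → L,
        r ∣ Nat.card (Subgroup.closure (Set.range fun i => MulAut.conj (f i) * x * (MulAut.conj (f i))⁻¹)))

theorem concl_of_tri {L : Type u} [Group L] {r : ℕ} {x : MulAut L} (hr : 3 ≤ r)
    (hc : Cfsg.IsAlternating L ∨ Cfsg.IsPSL L ∨ Cfsg.IsPSp L ∨ Cfsg.IsPSU L ∨ Cfsg.IsPOmegaOdd L ∨
        Cfsg.IsPOmegaPlus L ∨ Cfsg.IsPOmegaMinus L) (h : H915.Gs.Tri r x) : Concl L r x := by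
  rcases h with h | ⟨h1, h2⟩ | ⟨h1, h2⟩
  · left
    obtain ⟨f, hf⟩ := H915.Gs.Reach.top (by norm_num) h
    exact ⟨f, hf⟩
  · right; left
    refine ⟨hc, h1, ?_⟩
    obtain ⟨f, hf⟩ := H915.Gs.Reach.top (by omega) h2
    exact ⟨f, hf⟩
  · right; right
    refine ⟨hc, h1, ?_⟩
    obtain ⟨f, hf⟩ := h2
    exact ⟨f, hf⟩

theorem main (R : Rows.{u}) {L : Type u} [Group L] [Finite L] [IsSimpleGroup L] (hL : ¬ IsMulCommutative L)
    (hK : IsKnownSimple' L) (r : ℕ) (hr : r.Prime) (hr2 : r ≠ 2) (x : MulAut L) (hx : (orderOf x).Prime) :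
    Concl L r x := by
  have hr3 : 3 ≤ r := by
    have := hr.two_le
    omega
  rcases hK with h | h | h | h | h | h | h | h | h | h
  · exfalso
    apply hL
    have hp : (Nat.card L).Prime := h
    have := isCyclic_of_prime_card (α := L) (p := Nat.card L) (hp := ⟨hp⟩) rfl
    exact IsCyclic.commutative
  · rcases H127.Gen.row_alt' h r hr hr2 x hx with h1 | ⟨h1, h2⟩ | ⟨h1, h2⟩
    · exact Or.inl h1
    · exact Or.inr (Or.inl ⟨Or.inl h, h1, h2⟩)
    · exact Or.inr (Or.inr ⟨Or.inl h, h1, h2⟩)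
  · exact concl_of_tri hr3 (Or.inr (Or.inl h)) (R.psl L hL h r x hr hr2 hx)
  · exact concl_of_tri hr3 (Or.inr (Or.inr (Or.inl h))) (R.psp L h r x hr hr2 hx)
  · exact concl_of_tri hr3 (Or.inr (Or.inr (Or.inr (Or.inl h)))) (R.psu L h r x hr hr2 hx)
  · exact concl_of_tri hr3 (Or.inr (Or.inr (Or.inr (Or.inr (Or.inl h))))) (R.omegaOdd L h r x hr hr2 hx)
  · exact concl_of_tri hr3 (Or.inr (Or.inr (Or.inr (Or.inr (Or.inr (Or.inl h)))))) (R.omegaPlus L h r x hr hr2 hx)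
  · exact concl_of_tri hr3 (Or.inr (Or.inr (Or.inr (Or.inr (Or.inr (Or.inr h)))))) (R.omegaMinus L h r x hr hr2 hx)
  · left
    rcases h with h | h | h | h | h | h | h | h | h | h | h
    · exact R.g2 L h x hx
    · exact R.f4 L h x hx
    · exact R.e6 L h x hx
    · exact R.e7 L h x hx
    · exact R.e8 L h x hx
    · exact R.te6 L h x hx
    · exact R.td4 L h x hx
    · exact R.sz L h x hx
    · exact R.ree L h x hx
    · exact R.tf4 L h x hx
    · exact R.tits L h x hx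
  · exact Or.inl (R.spor L h x hx)

end Cfsg.Agent.H260.GS
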